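/-
Data for the fixed points of the second automorphism of the explicit model of type M(22).
Generated by tools/fischer/out/e2.py.
-/
import Mathlib

set_option autoImplicit false

namespace Cfsg.Agent.Lib.Fischer.M22.Rows.Out

/-- The code of the special transposition. -/
def n0C : ℕ := 17

/-- The codes of the other fixed transpositions. -/
def L63 : List ℕ := [19, 31, 140, 76, 21, 151, 223, 89, 70, 196, 202, 147, 83, 209, 136, 27, 166, 127, 53, 181, 100, 106, 46, 172, 38, 113, 247, 57, 61, 23, 226, 34, 108, 68, 177, 119, 121, 81, 232, 98, 228, 42, 191, 253, 187, 241, 49, 162, 168, 251, 238, 211, 200, 198, 91, 221, 149, 78, 142, 29, 25, 138, 145]

/-- The symplectic vector of a code. -/
def NUT : ℕ := 0xfc0f80f40f00ec0e80e40e0003f03e03d03c03b03a039038dc0d80d40d00cc0c80c40c00037036035034033032031030bc0b80b40b00ac0a80a40a0002f02e02d02c02b02a0290289c09809409008c08808408000270260250240230220210207c07807407006c068064060001f01e01d01c01b01a0190185c05805405004c04804404000170160150140130120110103c03803403002c028024020000f00e00d00c00b00a0090081c01801401000c0080040000007006005004003002001000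

/-- The first half of the orbit. -/
def M1 : ℕ := 0x1124402000000000000000000000000000000000000020097080300000080008008000188c0c10101100000000000000000000000000000000001000080000000200000000800000000000000040002a20000008020000000000000000004008000000000000000000180000c40a0000040400002000000120518042400000030000004000000000001000000000094000000128011a000000000000015600002400000000000002400040a001080001000000000000100800000000000000000000000008200000000002cc000c4080000000000188040000000000000000060000000000000006c10000000000000000000000000000000000000004000000000000000000000000000000000000000c401000000000400000000000000000000000000000000000000000000000000000000000000000000000000000000000000000000000000000000000000000000000000000000000000000000000000000000000000000000000000000000000000000000000000000000000000000000000000000000000000000000000000000000000000000000000000000000000000000000000000000000000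

/-- The second half of the orbit. -/
def M2 : ℕ := 0x150400008008040024c30841100000000000000000000000000000000000000000000000000000000100091581000600000040002000100000030400400001000000000400002000000000800001000000040428021200000000a00000002000000000000000000000404000000800580000000000000008a000000010000000000001600024820900000c00000040000000c0308104000002000000000000000000300000000000ab00000a6018100000000000598002400000000000000000008080000000000000110000000000000000000000000000008000000000062008000000000002000000000000000000000619000000000003102000000000000000000000000000000000000000000000000000000000000000000000000000000000020000000000000000000000000000000000000000000000000000000000000000000000000000000000000000000000000000000000000000000000000000000000000000000000000000000000000000000000000000000000000000000000000000000000000000000000000000000000000000000000000000000000000000000000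

/-- A label in the first half. -/
def q1L : ℕ := 1198

end Cfsg.Agent.Lib.Fischer.M22.Rows.Out
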